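import Mathlib
import Cfsg.Agent.Helper5.SuBN.Main

/-!
# S2225/S2226 (helper99), BLOCK AU (`SU_n`, characteristic 2; sub-architect helper9): definitions
-/

set_option autoImplicit false

namespace Cfsg.Agent.Helper9.PronAU

/-- the weight `∑ a, a * π a` of a permutation of `Fin n`; it is maximal exactly for the identity, and it increases when a
descent of `π` is removed -/
def wt {n : ℕ} (π : Equiv.Perm (Fin n)) : ℕ := ∑ a : Fin n, a.val * (π a).val

end Cfsg.Agent.Helper9.PronAU
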