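import Mathlib
import Cfsg.Agent.Helper5.SuBN.Main
import Cfsg.Agent.Helper6.BN
import Cfsg.Agent.Helper9.PronAU.Defs

/-!
# BLOCK AU of S2225/S2226: the leaves (TC), (W0), (W1), (W2), (PS), (DG), (NB), (TX) (helper9's own copies)
-/

set_option autoImplicit false
set_option linter.unusedSectionVars false
set_option linter.unusedVariables false

namespace Cfsg.Agent.Helper9.PronAU

open Matrix Cfsg.Agent.Helper5.SuBN Cfsg.Agent.Helper5.SuBN.Pair Cfsg.Agent.Helper5.SuBN.Main

section perm
variable {n : ℕ}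

theorem wt_le (π : Equiv.Perm (Fin n)) : wt π ≤ n ^ 3 := by
  unfold wt
  calc ∑ a : Fin n, a.val * (π a).val ≤ ∑ _a : Fin n, n * n := by
        apply Finset.sum_le_sum
        intro a _
        exact Nat.mul_le_mul (le_of_lt a.2) (le_of_lt (π a).2)
    _ = n ^ 3 := by
        rw [Finset.sum_const, Finset.card_univ, Fintype.card_fin, smul_eq_mul]
        ring

/-- removing the descent `(i, j)` increases the weight -/
theorem wt_lt_wt_mul_swap (π : Equiv.Perm (Fin n)) (i j : Fin n) (hij : i < j) (h : π j < π i) :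
    wt π < wt (π * Equiv.swap i j) := by
  classical
  have hji : j ≠ i := ne_of_gt hij
  have key : ∀ f : Fin n → ℕ, ∑ a, f a = f i + f j + ∑ a ∈ (Finset.univ.erase i).erase j, f a := by
    intro f
    rw [← Finset.add_sum_erase Finset.univ f (Finset.mem_univ i),
      ← Finset.add_sum_erase (Finset.univ.erase i) f (Finset.mem_erase.2 ⟨hji, Finset.mem_univ j⟩)]
    ring
  unfold wt
  rw [key (fun a => a.val * (π a).val), key (fun a => a.val * ((π * Equiv.swap i j) a).val)]
  have hrest : ∑ a ∈ (Finset.univ.erase i).erase j, a.val * ((π * Equiv.swap i j) a).val =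
      ∑ a ∈ (Finset.univ.erase i).erase j, a.val * (π a).val := by
    apply Finset.sum_congr rfl
    intro a ha
    rw [Finset.mem_erase, Finset.mem_erase] at ha
    rw [Equiv.Perm.mul_apply, Equiv.swap_apply_of_ne_of_ne ha.2.1 ha.1]
  rw [hrest]
  simp only [Equiv.Perm.mul_apply, Equiv.swap_apply_left, Equiv.swap_apply_right]
  rw [Fin.lt_def] at hij h
  obtain ⟨d, hd⟩ : ∃ d, j.val = i.val + d + 1 := ⟨j.val - i.val - 1, by omega⟩
  obtain ⟨e, he⟩ : ∃ e, (π i).val = (π j).val + e + 1 := ⟨(π i).val - (π j).val - 1, by omega⟩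
  rw [hd, he]
  have : i.val * ((π j).val + e + 1) + (i.val + d + 1) * (π j).val + (d + 1) * (e + 1) =
      i.val * (π j).val + (i.val + d + 1) * ((π j).val + e + 1) := by ring
  have hpos : 0 < (d + 1) * (e + 1) := Nat.mul_pos (Nat.succ_pos _) (Nat.succ_pos _)
  omega

theorem wt_lt_wt_mul_sPerm (hn : Even n) (π : Equiv.Perm (Fin n)) (hrev : ∀ a, π (Fin.rev a) = Fin.rev (π a))
    (k : Fin (n / 2)) (hk : π (ib k) < π (ia k)) : wt π < wt (π * sPerm k) := by
  obtain ⟨r, hr⟩ := hn
  have hk2 := k.2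
  have hiab : ia k < ib k := by
    rw [Fin.lt_def, val_ia, val_ib]; omega
  by_cases h1 : 2 * k.val + 3 < n
  · -- kind (I)
    have hs : sPerm k = Equiv.swap (ia k) (ib k) * Equiv.swap (Fin.rev (ia k)) (Fin.rev (ib k)) := by
      unfold sPerm
      rw [if_pos h1]
    rw [hs, ← mul_assoc]
    have hw1 := wt_lt_wt_mul_swap π (ia k) (ib k) hiab hk
    have hlt : Fin.rev (ib k) < Fin.rev (ia k) := Fin.rev_lt_rev.mpr hiab
    have hne1 : Fin.rev (ia k) ≠ ia k := by
      intro h
      have := congrArg Fin.val h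
      rw [val_rev, val_ia] at this
      omega
    have hne2 : Fin.rev (ia k) ≠ ib k := by
      intro h
      have := congrArg Fin.val h
      rw [val_rev, val_ia, val_ib] at this
      omega
    have hne3 : Fin.rev (ib k) ≠ ia k := by
      intro h
      have := congrArg Fin.val h
      rw [val_rev, val_ia, val_ib] at this
      omega
    have hne4 : Fin.rev (ib k) ≠ ib k := by
      intro h
      have := congrArg Fin.val h
      rw [val_rev, val_ib] at this
      omega
    have hw2 := wt_lt_wt_mul_swap (π * Equiv.swap (ia k) (ib k)) (Fin.rev (ib k)) (Fin.rev (ia k)) hlt (by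
      rw [Equiv.Perm.mul_apply, Equiv.Perm.mul_apply, Equiv.swap_apply_of_ne_of_ne hne1 hne2,
        Equiv.swap_apply_of_ne_of_ne hne3 hne4, hrev, hrev, Fin.rev_lt_rev]
      exact hk)
    rw [Equiv.swap_comm (Fin.rev (ib k)) (Fin.rev (ia k))] at hw2
    exact lt_trans hw1 hw2
  · -- kind (II)
    have h2 : 2 * k.val + 2 = n := by omega
    have hs : sPerm k = Equiv.swap (ia k) (Fin.rev (ia k)) := by
      unfold sPerm
      rw [if_neg h1]
    have hrevia : Fin.rev (ia k) = ib k := by
      apply Fin.ext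
      rw [val_rev, val_ia, val_ib]
      omega
    rw [hs, hrevia]
    exact wt_lt_wt_mul_swap π (ia k) (ib k) hiab hk

theorem eq_one_of_forall_lt (hn : Even n) (π : Equiv.Perm (Fin n)) (hrev : ∀ a, π (Fin.rev a) = Fin.rev (π a))
    (h : ∀ k : Fin (n / 2), π (ia k) < π (ib k)) : π = 1 := by
  obtain ⟨r, hr⟩ := hn
  have hstep : ∀ a b : Fin n, a.val + 1 = b.val → π a < π b := by
    intro a b hab
    have ha := a.2
    have hb := b.2
    by_cases hlt : a.val < n / 2
    · have h1 := h ⟨a.val, hlt⟩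
      have e1 : ia (⟨a.val, hlt⟩ : Fin (n / 2)) = a := Fin.ext rfl
      have e2 : ib (⟨a.val, hlt⟩ : Fin (n / 2)) = b := Fin.ext (by rw [val_ib]; exact hab)
      rwa [e1, e2] at h1
    · have hk : n - 2 - a.val < n / 2 := by omega
      have h1 := h ⟨n - 2 - a.val, hk⟩
      have e1 : ia (⟨n - 2 - a.val, hk⟩ : Fin (n / 2)) = Fin.rev b := by
        apply Fin.ext
        rw [val_ia, val_rev]
        show n - 2 - a.val = n - 1 - b.val
        omega
      have e2 : ib (⟨n - 2 - a.val, hk⟩ : Fin (n / 2)) = Fin.rev a := by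
        apply Fin.ext
        rw [val_ib, val_rev]
        show n - 2 - a.val + 1 = n - 1 - a.val
        omega
      rw [e1, e2, hrev, hrev, Fin.rev_lt_rev] at h1
      exact h1
  have hmono : ∀ d : ℕ, ∀ a b : Fin n, a.val + d + 1 = b.val → π a < π b := by
    intro d
    induction d with
    | zero => intro a b hab; exact hstep a b (by omega)
    | succ d ih =>
      intro a b hab
      have hb := b.2
      have hc : a.val + d + 1 < n := by omega
      exact lt_trans (ih a ⟨a.val + d + 1, hc⟩ rfl) (hstep ⟨a.val + d + 1, hc⟩ b (by simp; omega))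
  have hsm : StrictMono π := by
    intro a b hab
    rw [Fin.lt_def] at hab
    exact hmono (b.val - a.val - 1) a b (by omega)
  have hsm' : StrictMono (π⁻¹ : Equiv.Perm (Fin n)) := by
    intro a b hab
    by_contra hcon
    push Not at hcon
    rcases lt_or_eq_of_le hcon with h1 | h1
    · have := hsm h1
      have e1 : π (π⁻¹ a) = a := (Equiv.eq_symm_apply π).mp rfl
      have e2 : π (π⁻¹ b) = b := (Equiv.eq_symm_apply π).mp rfl
      rw [e1, e2] at this
      exact absurd this (not_lt.mpr (le_of_lt hab))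
    · have := congrArg π h1
      have e1 : π (π⁻¹ a) = a := (Equiv.eq_symm_apply π).mp rfl
      have e2 : π (π⁻¹ b) = b := (Equiv.eq_symm_apply π).mp rfl
      rw [e1, e2] at this
      exact absurd this.symm (ne_of_lt hab)
  ext a
  have h1 : a ≤ π a := hsm.id_le a
  have h2 : π a ≤ π⁻¹ (π a) := hsm'.id_le (π a)
  have e3 : π⁻¹ (π a) = a := Equiv.Perm.inv_eq_iff_eq.mpr rfl
  rw [e3] at h2
  rw [Equiv.Perm.one_apply]
  exact congrArg Fin.val (le_antisymm h2 h1)

end perm

section matrix
variable {F : Type*} [Field F] {n : ℕ} {σ : F →+* F}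

theorem sMat_mono (c : F) (k : Fin (n / 2)) (s : UG n σ) (hs : mat s = sMat c k) :
    ∀ a b : Fin n, a ≠ sPerm k b → mat s a b = 0 := by
  intro a b hab
  rw [hs, sMat_apply, if_neg hab]

theorem mem_Usub_of_conj_mem_Bsub (m : UG n σ) (hm : m ∈ Mono n σ) (x : UG n σ) (hx : x ∈ Usub n σ)
    (h : m * x * m⁻¹ ∈ Bsub n σ) : m * x * m⁻¹ ∈ Usub n σ := by
  obtain ⟨π, hπ⟩ := hm
  refine ⟨(mem_Bsub_iff _).1 h, fun a => ?_⟩
  obtain ⟨b, rfl⟩ := π.surjective a
  rw [mono_conj_apply' m π hπ x b b, hx.2 b, mul_one, mul_comm]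
  exact mono_inv_apply_mul m π hπ b

theorem normalizer_Usub_le (hσ : ∀ x, σ (σ x) = x) (c : F) (hc0 : c ≠ 0) (hc : σ c = -c) :
    Subgroup.normalizer ((Usub n σ : Subgroup (UG n σ)) : Set (UG n σ)) ≤ Bsub n σ := by
  classical
  set P' : Cfsg.BNPair (UG n σ) := bnPair (n := n) hσ c hc0 hc with hP'
  have hdec : ∀ s : P'.S, ∀ b ∈ P'.B, ∃ y x : UG n σ, b = y * x ∧ s.1 * y * s.1⁻¹ ∈ P'.B ∧
      x ∈ Xset σ (Classical.choose s.2) :=
    fun s b hb => exists_factor hσ c hc0 hc (Classical.choose s.2) s.1 (Classical.choose_spec s.2) b hb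
  have h10 : ∀ g : UG n σ, (∀ u ∈ Usub n σ, g⁻¹ * u * g ∈ Bsub n σ) → g ∈ Bsub n σ :=
    fun g hg => Cfsg.Agent.Helper5.SuBN.mem_B_of_conj_gen P' (fun s => Xset σ (Classical.choose s.2)) hdec
      (Usub n σ) (fun b hb u hu => conj_mem_Usub b hb u hu) (fun s => Xset_subset_Usub _) g hg
  intro g hg
  apply h10
  intro u hu
  rw [Subgroup.mem_normalizer_iff] at hg
  apply Usub_le_Bsub
  rw [hg (g⁻¹ * u * g)]
  have : g * (g⁻¹ * u * g) * g⁻¹ = u := by group
  rw [this]
  exact hu

/-- (TC) diagonal matrices commute -/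
theorem Tsub_comm (t t' : UG n σ) (ht : t ∈ Tsub n σ) (ht' : t' ∈ Tsub n σ) : t * t' = t' * t := by
  apply mat_injective
  rw [mat_mul, mat_mul]
  ext a b
  rw [Matrix.mul_apply, Matrix.mul_apply]
  by_cases hab : a = b
  · subst hab
    rw [Finset.sum_eq_single a, Finset.sum_eq_single a, mul_comm]
    · intro c _ hca
      rw [ht' a c (Ne.symm hca), zero_mul]
    · intro h; exact absurd (Finset.mem_univ _) h
    · intro c _ hca
      rw [ht a c (Ne.symm hca), zero_mul]
    · intro h; exact absurd (Finset.mem_univ _) h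
  · rw [Finset.sum_eq_zero, Finset.sum_eq_zero]
    · intro c _
      by_cases hac : a = c
      · subst hac
        rw [ht a b hab, mul_zero]
      · rw [ht' a c hac, zero_mul]
    · intro c _
      by_cases hac : a = c
      · subst hac
        rw [ht' a b hab, mul_zero]
      · rw [ht a c hac, zero_mul]

/-- conjugation by a diagonal matrix -/
theorem diag_conj_apply (t : UG n σ) (ht : t ∈ Tsub n σ) (g : UG n σ) (a b : Fin n) :
    mat (t * g * t⁻¹) a b = mat t a a * mat g a b * σ (mat t (Fin.rev b) (Fin.rev b)) := by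
  have h := mono_conj_apply' t 1 (fun a b hab => ht a b hab) g a b
  rw [Equiv.Perm.one_apply, Equiv.Perm.one_apply] at h
  rw [h, inv_apply]

/-- the diagonal entries of a diagonal unitary matrix -/
theorem diag_mul_sigma (t : UG n σ) (ht : t ∈ Tsub n σ) (a : Fin n) :
    mat t a a * σ (mat t (Fin.rev a) (Fin.rev a)) = 1 := by
  have h := diag_conj_apply t ht 1 a a
  rw [mul_one, mul_inv_cancel, mat_one, Matrix.one_apply_eq, mul_one] at h
  exact h.symm

theorem conj_mem_Xset (hn : Even n) (hσ : ∀ x, σ (σ x) = x) (t : UG n σ) (ht : t ∈ Tsub n σ) (k : Fin (n / 2))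
    (x : UG n σ) (hx : x ∈ Xset σ k) : t * x * t⁻¹ ∈ Xset σ k := by
  obtain ⟨r, hr⟩ := hn
  obtain ⟨τ, u, hP, hxm⟩ := hx
  set d : Fin n → F := fun a => mat t a a with hd
  have hde : ∀ a, d a * σ (d (Fin.rev a)) = 1 := fun a => diag_mul_sigma t ht a
  refine ⟨d (ia k) * τ * σ (d (Fin.rev (ib k))), d (ia k) * u * σ (d (ia k)), ?_, ?_⟩
  · -- `Param`
    unfold Param at hP ⊢
    by_cases h1 : 2 * k.val + 3 < n
    · rw [if_pos h1] at hP ⊢
      rw [hP, mul_zero, zero_mul]
    · have h2 : 2 * k.val + 2 = n := by have := k.2; omega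
      rw [if_neg h1, if_pos h2] at hP ⊢
      obtain ⟨hτ, hu⟩ := hP
      refine ⟨by rw [hτ, mul_zero, zero_mul], ?_⟩
      rw [map_mul, map_mul, hσ]
      linear_combination (d (ia k) * σ (d (ia k))) * hu
  · ext a b
    rw [diag_conj_apply t ht x a b, hxm, xMat_apply, xMat_apply]
    show d a * _ * σ (d (Fin.rev b)) = _
    have h1 : d a * (if a = b then (1 : F) else 0) * σ (d (Fin.rev b)) = if a = b then 1 else 0 := by
      split_ifs with h
      · subst h
        rw [mul_one]
        exact hde a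
      · ring
    have h2 : d a * (if ia k = a ∧ ib k = b then τ else 0) * σ (d (Fin.rev b)) =
        if ia k = a ∧ ib k = b then d (ia k) * τ * σ (d (Fin.rev (ib k))) else 0 := by
      split_ifs with h
      · obtain ⟨rfl, rfl⟩ := h
        rfl
      · ring
    have h3 : d a * (if Fin.rev (ib k) = a ∧ Fin.rev (ia k) = b then σ τ else 0) * σ (d (Fin.rev b)) =
        if Fin.rev (ib k) = a ∧ Fin.rev (ia k) = b then σ (d (ia k) * τ * σ (d (Fin.rev (ib k)))) else 0 := by
      split_ifs with h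
      · obtain ⟨rfl, rfl⟩ := h
        rw [Fin.rev_rev, map_mul, map_mul, hσ]
        ring
      · ring
    have h4 : d a * (if ia k = a ∧ Fin.rev (ia k) = b then u else 0) * σ (d (Fin.rev b)) =
        if ia k = a ∧ Fin.rev (ia k) = b then d (ia k) * u * σ (d (ia k)) else 0 := by
      split_ifs with h
      · obtain ⟨rfl, rfl⟩ := h
        rw [Fin.rev_rev]
      · ring
    linear_combination h1 + h2 - h3 + h4

end matrix

end Cfsg.Agent.Helper9.PronAU
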