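import Mathlib
import Cfsg.Agent.Helper5.SuBN.Main
import Cfsg.Agent.Helper6.BN
import Cfsg.Agent.Helper9.PronAU.Defs
import Cfsg.Agent.Helper9.PronAU.Leaves
import Cfsg.Agent.Helper53.PronAU_NE
import Cfsg.Agent.Helper53.PronAU_D1
import Cfsg.Agent.Helper65.PronAU_BR
import Cfsg.Agent.Helper65.PronAU_SY
import Cfsg.Agent.S3820
import Cfsg.Agent.Helper72.AltProS13
import Cfsg.Agent.Helper71.Pronormal

/-!
# BLOCK AU of S2225/S2226: every odd-index subgroup of `PSU_n(q)`, `q` even, `n` even, is pronormal (helper9: the glue)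
-/

set_option autoImplicit false
set_option linter.unusedSectionVars false
set_option linter.unusedVariables false

namespace Cfsg.Agent.Helper9.PronAU

open Matrix Cfsg.Agent.Helper5.SuBN Cfsg.Agent.Helper5.SuBN.Pair Cfsg.Agent.Helper5.SuBN.Main

section key

variable {F : Type*} [Field F] {n : ℕ} {σ : F →+* F}

/-- the product of two monomial matrices -/
theorem mono_mul (m₁ m₂ : UG n σ) (π₁ π₂ : Equiv.Perm (Fin n))
    (h₁ : ∀ a b : Fin n, a ≠ π₁ b → mat m₁ a b = 0) (h₂ : ∀ a b : Fin n, a ≠ π₂ b → mat m₂ a b = 0) :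
    ∀ a b : Fin n, a ≠ (π₁ * π₂) b → mat (m₁ * m₂) a b = 0 := by
  intro a b hab
  rw [mat_mul, Matrix.mul_apply]
  apply Finset.sum_eq_zero
  intro c _
  by_cases hc : c = π₂ b
  · subst hc
    rw [h₁ a (π₂ b) hab, zero_mul]
  · rw [h₂ c b hc, mul_zero]

/-- the torus normalises `U` -/
theorem conj_mem_Usub' (t : UG n σ) (ht : t ∈ Tsub n σ) (u : UG n σ) (hu : u ∈ Usub n σ) :
    t * u * t⁻¹ ∈ Usub n σ := by
  have h := conj_mem_Usub t⁻¹ ((Bsub n σ).inv_mem (Tsub_le_Bsub ht)) u hu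
  rwa [inv_inv] at h

variable (hn : Even n) (hσ : ∀ x, σ (σ x) = x) (c : F) (hc0 : c ≠ 0) (hc : σ c = -c)

include hn hσ hc0 hc in
/-- one step of the induction -/
theorem key_step (X : Subgroup (UG n σ)) (hX : Usub n σ ≤ X) (m : UG n σ) (π : Equiv.Perm (Fin n))
    (hπ : ∀ a b : Fin n, a ≠ π b → mat m a b = 0) (hmX : m ∈ X)
    (ih : ∀ (m' : UG n σ) (π' : Equiv.Perm (Fin n)), (∀ a b : Fin n, a ≠ π' b → mat m' a b = 0) → m' ∈ X →
      wt π < wt π' → ∀ t ∈ Tsub n σ, t * m' * t⁻¹ ∈ X) :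
    ∀ t ∈ Tsub n σ, t * m * t⁻¹ ∈ X := by
  have hrev : ∀ a, π (Fin.rev a) = Fin.rev (π a) := mono_perm_rev m π hπ
  by_cases hdesc : ∀ k : Fin (n / 2), π (ia k) < π (ib k)
  · -- `π = 1`, `m` is diagonal
    have h1 : π = 1 := eq_one_of_forall_lt hn π hrev hdesc
    have hmT : m ∈ Tsub n σ := by
      intro a b hab
      apply hπ
      rw [h1]
      exact hab
    intro t ht
    rw [Tsub_comm t m ht hmT, mul_inv_cancel_right]
    exact hmX
  · push Not at hdesc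
    obtain ⟨k, hk⟩ := hdesc
    have hiab : ia k ≠ ib k := by
      intro h
      have := congrArg Fin.val h
      rw [val_ia, val_ib] at this
      omega
    have hkdesc : π (ib k) < π (ia k) := by
      rcases lt_or_eq_of_le hk with h | h
      · exact h
      · exact absurd (π.injective h).symm hiab
    obtain ⟨s, hs⟩ := exists_of_isUJ (sMat_isUJ (σ := σ) c hc0 hc k)
    have hsS : s ∈ Sset n σ c := ⟨k, hs⟩
    have hsM : s ∈ Mono n σ := Sset_subset_Mono c hsS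
    obtain ⟨x₀, hx₀, hx₀ne⟩ := Cfsg.Agent.Helper53.PronAU.exists_mem_Xset_ne hn hσ c hc0 hc k
    have hmM : m ∈ Mono n σ := ⟨π, hπ⟩
    -- the negative root group lies in `X`
    have hneg : ∀ x ∈ Xset σ k, s⁻¹ * x * s ∈ X := by
      rcases conj_Xset_dichotomy c k s hs m⁻¹ ((Mono n σ).inv_mem hmM) with h | h
      · exfalso
        have h1 := h x₀ hx₀
        rw [inv_inv] at h1
        exact absurd (Cfsg.Agent.Helper53.PronAU.lt_of_conj_mem_Bsub m π hπ k x₀ hx₀ne h1) (not_lt.mpr hk)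
      · intro x hx
        have h1 := h x hx
        have h2 : (s * m⁻¹)⁻¹ * x * (s * m⁻¹) = (m * s⁻¹) * x * (m * s⁻¹)⁻¹ := by group
        rw [h2] at h1
        have h3 := mem_Usub_of_conj_mem_Bsub (m * s⁻¹)
          ((Mono n σ).mul_mem hmM ((Mono n σ).inv_mem hsM)) x (Xset_subset_Usub k hx) h1
        have h4 : s⁻¹ * x * s = m⁻¹ * ((m * s⁻¹) * x * (m * s⁻¹)⁻¹) * m := by group
        rw [h4]
        exact X.mul_mem (X.mul_mem (X.inv_mem hmX) (hX h3)) hmX
    have hss : s * s ∈ Tsub n σ := sq_mem_Tsub c s hsS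
    have hpos : ∀ x ∈ Xset σ k, s * x * s⁻¹ ∈ X := by
      intro x hx
      have h1 := conj_mem_Xset hn hσ (s * s) hss k x hx
      have h2 : s * x * s⁻¹ = s⁻¹ * ((s * s) * x * (s * s)⁻¹) * s := by group
      rw [h2]
      exact hneg _ h1
    -- the rank one element
    have hx₀1 : x₀ ≠ 1 := by
      rintro rfl
      rw [mat_one, Matrix.one_apply_ne hiab] at hx₀ne
      exact hx₀ne rfl
    obtain ⟨b₁, hb₁, x₂, hx₂, he⟩ := rank_one hσ c hc0 hc k s hs x₀ hx₀ hx₀1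
    obtain ⟨u₁, hu₁, t₁, ht₁, hb₁e⟩ := exists_Usub_mul_Tsub b₁ hb₁
    obtain ⟨g, hg⟩ : ∃ g : UG n σ, g = b₁ * s := ⟨_, rfl⟩
    have hge : g = s * x₀ * s⁻¹ * x₂⁻¹ := by
      rw [hg, he]; group
    have hx₂X : x₂⁻¹ ∈ X := X.inv_mem (hX (Xset_subset_Usub k hx₂))
    have hgX : g ∈ X := by
      rw [hge]
      exact X.mul_mem (hpos x₀ hx₀) hx₂X
    -- `T` normalises `g` into `X`
    have hgT : ∀ t ∈ Tsub n σ, t * g * t⁻¹ ∈ X := by
      intro t ht
      have h1 : s⁻¹ * t * s ∈ Tsub n σ := by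
        have := conj_mem_Tsub s⁻¹ ((Mono n σ).inv_mem hsM) t ht
        rwa [inv_inv] at this
      have h2 := conj_mem_Xset hn hσ (s⁻¹ * t * s) h1 k x₀ hx₀
      have h3 : t * g * t⁻¹ = s * ((s⁻¹ * t * s) * x₀ * (s⁻¹ * t * s)⁻¹) * s⁻¹ * (t * x₂⁻¹ * t⁻¹) := by
        rw [hge]; group
      rw [h3]
      refine X.mul_mem (hpos _ h2) (hX ?_)
      exact conj_mem_Usub' t ht _ ((Usub n σ).inv_mem (Xset_subset_Usub k hx₂))
    -- the shorter monomial element
    obtain ⟨m', hm'⟩ : ∃ m' : UG n σ, m' = m * (s⁻¹ * t₁⁻¹) := ⟨_, rfl⟩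
    have hm'e : m' = m * g⁻¹ * u₁ := by
      rw [hm', hg, hb₁e]; group
    have hm'X : m' ∈ X := by
      rw [hm'e]
      exact X.mul_mem (X.mul_mem hmX (X.inv_mem hgX)) (hX hu₁)
    have hsinv : ∀ a b : Fin n, a ≠ sPerm k b → mat s⁻¹ a b = 0 := by
      intro a b hab
      apply mono_inv_apply_eq_zero s (sPerm k) (sMat_mono c k s hs) a b
      intro h
      apply hab
      rw [h]
      have h5 : sPerm k ((sPerm k)⁻¹ b) = b := (sPerm k).apply_symm_apply b
      have h6 := sPerm_sPerm k ((sPerm k)⁻¹ b)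
      rw [h5] at h6
      exact h6.symm
    have ht₁inv : ∀ a b : Fin n, a ≠ (1 : Equiv.Perm (Fin n)) b → mat t₁⁻¹ a b = 0 := by
      intro a b hab
      exact (Tsub n σ).inv_mem ht₁ a b hab
    have hπ' : ∀ a b : Fin n, a ≠ (π * (sPerm k * 1)) b → mat m' a b = 0 := by
      rw [hm']
      exact mono_mul m (s⁻¹ * t₁⁻¹) π (sPerm k * 1) hπ (mono_mul s⁻¹ t₁⁻¹ (sPerm k) 1 hsinv ht₁inv)
    rw [mul_one] at hπ'
    have hwt : wt π < wt (π * sPerm k) := wt_lt_wt_mul_sPerm hn π hrev k hkdesc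
    have hih := ih m' (π * sPerm k) hπ' hm'X hwt
    intro t ht
    have h7 : t * m * t⁻¹ = (t * m' * t⁻¹) * (t * u₁⁻¹ * t⁻¹) * (t * g * t⁻¹) := by
      rw [hm'e]; group
    rw [h7]
    exact X.mul_mem (X.mul_mem (hih t ht) (hX (conj_mem_Usub' t ht _ ((Usub n σ).inv_mem hu₁)))) (hgT t ht)

include hn hσ hc0 hc in
/-- the torus normalises the monomial elements of `X` into `X` -/
theorem key_mono (X : Subgroup (UG n σ)) (hX : Usub n σ ≤ X) :
    ∀ N : ℕ, ∀ (m : UG n σ) (π : Equiv.Perm (Fin n)), (∀ a b : Fin n, a ≠ π b → mat m a b = 0) → m ∈ X →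
      n ^ 3 ≤ wt π + N → ∀ t ∈ Tsub n σ, t * m * t⁻¹ ∈ X := by
  intro N
  induction N with
  | zero =>
    intro m π hπ hmX hN
    apply key_step hn hσ c hc0 hc X hX m π hπ hmX
    intro m' π' _ _ hlt
    exfalso
    have := wt_le π'
    omega
  | succ N ih =>
    intro m π hπ hmX hN
    apply key_step hn hσ c hc0 hc X hX m π hπ hmX
    intro m' π' hπ' hm'X hlt
    exact ih m' π' hπ' hm'X (by omega)

include hn hσ hc0 hc in
/-- **KEY LEMMA**: every subgroup containing `U` is normalised by the torus -/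
theorem conj_mem_of_Usub_le (X : Subgroup (UG n σ)) (hX : Usub n σ ≤ X) (t : UG n σ) (ht : t ∈ Tsub n σ)
    (x : UG n σ) (hx : x ∈ X) : t * x * t⁻¹ ∈ X := by
  obtain ⟨u, hu, m, hm, u', hu', rfl⟩ := Cfsg.Agent.Helper65.PronAU.exists_Usub_Mono_Usub hσ c hc0 hc x
  obtain ⟨π, hπ⟩ := hm
  have hmX : m ∈ X := by
    have h1 : m = u⁻¹ * (u * m * u') * u'⁻¹ := by group
    rw [h1]
    exact X.mul_mem (X.mul_mem (X.inv_mem (hX hu)) hx) (X.inv_mem (hX hu'))
  have h2 := key_mono hn hσ c hc0 hc X hX (n ^ 3) m π hπ hmX (Nat.le_add_left _ _) t ht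
  have h3 : t * (u * m * u') * t⁻¹ = (t * u * t⁻¹) * (t * m * t⁻¹) * (t * u' * t⁻¹) := by group
  rw [h3]
  exact X.mul_mem (X.mul_mem (hX (conj_mem_Usub' t ht u hu)) h2) (hX (conj_mem_Usub' t ht u' hu'))

include hn hσ hc0 hc in
/-- every subgroup containing `U` is normalised by `B` -/
theorem conj_mem_of_Usub_le_of_mem_Bsub (X : Subgroup (UG n σ)) (hX : Usub n σ ≤ X) (b : UG n σ)
    (hb : b ∈ Bsub n σ) (x : UG n σ) (hx : x ∈ X) : b * x * b⁻¹ ∈ X := by
  obtain ⟨u, hu, t, ht, rfl⟩ := exists_Usub_mul_Tsub b hb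
  have h1 : u * t * x * (u * t)⁻¹ = u * (t * x * t⁻¹) * u⁻¹ := by group
  rw [h1]
  exact X.mul_mem (X.mul_mem (hX hu) (conj_mem_of_Usub_le hn hσ c hc0 hc X hX t ht x hx)) (X.inv_mem (hX hu))

end key

/-! ## pronormality -/

section pronormal

open Cfsg.Agent.Helper71

variable {F : Type*} [Field F] [Fintype F] {n : ℕ} {σ : F →+* F}
  (hn : Even n) (hσ : ∀ x, σ (σ x) = x) (c : F) (hc0 : c ≠ 0) (hc : σ c = -c)

theorem map_conj_eq_of_forall {G : Type*} [Group G] (H : Subgroup G) (g : G)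
    (h1 : ∀ x ∈ H, g * x * g⁻¹ ∈ H) (h2 : ∀ x ∈ H, g⁻¹ * x * g ∈ H) :
    H.map (MulAut.conj g).toMonoidHom = H := by
  apply le_antisymm
  · rintro _ ⟨x, hx, rfl⟩
    exact h1 x hx
  · intro x hx
    refine ⟨g⁻¹ * x * g, h2 x hx, ?_⟩
    show g * (g⁻¹ * x * g) * g⁻¹ = x
    group

include hn hσ hc0 hc in
/-- every subgroup containing `U` is pronormal (`p` the characteristic) -/
theorem isPronormal_of_Usub_le (p : ℕ) [Fact p.Prime] [CharP F p] (H : Subgroup (UG n σ))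
    (hUH : Usub n σ ≤ H) : Cfsg.IsPronormal H := by
  set P : Sylow p (UG n σ) :=
    (Usub_isPGroup (σ := σ) (n := n) p).toSylow (Cfsg.Agent.Helper65.PronAU.not_dvd_index_Usub hσ c hc0 hc p) with hP
  have hPU : (P : Subgroup (UG n σ)) = Usub n σ := IsPGroup.toSylow_coe _ _
  have hUpro : Cfsg.IsPronormal (Usub n σ) := by
    rw [← hPU]
    exact Cfsg.Agent.Helper72.AltPro.isPronormal_sylow P
  rw [Cfsg.Agent.S3820.result (Usub n σ) H hUH hUpro]
  intro g hg
  have hgB : g ∈ Bsub n σ := normalizer_Usub_le hσ c hc0 hc hg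
  have hgB' : g⁻¹ ∈ Bsub n σ := (Bsub n σ).inv_mem hgB
  have h1 : H.map (MulAut.conj g).toMonoidHom = H := by
    apply map_conj_eq_of_forall
    · intro x hx
      exact conj_mem_of_Usub_le_of_mem_Bsub hn hσ c hc0 hc H hUH g hgB x hx
    · intro x hx
      have := conj_mem_of_Usub_le_of_mem_Bsub hn hσ c hc0 hc H hUH g⁻¹ hgB' x hx
      rwa [inv_inv] at this
  refine ⟨1, Subgroup.one_mem _, ?_⟩
  rw [h1]
  symm
  apply map_conj_eq_of_forall
  · intro x hx
    simpa using hx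
  · intro x hx
    simpa using hx

include hn hσ hc0 hc in
/-- characteristic 2: every subgroup of odd index is pronormal -/
theorem isPronormal_of_odd_index_UG [CharP F 2] (H : Subgroup (UG n σ)) (hH : Odd H.index) :
    Cfsg.IsPronormal H := by
  haveI : Fact (Nat.Prime 2) := Nat.fact_prime_two
  obtain ⟨Q, hQ⟩ := Cfsg.Agent.Helper72.AltPro.exists_sylow_le_of_odd_index H hH
  set P : Sylow 2 (UG n σ) :=
    (Usub_isPGroup (σ := σ) (n := n) 2).toSylow (Cfsg.Agent.Helper65.PronAU.not_dvd_index_Usub hσ c hc0 hc 2) with hP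
  have hPU : (P : Subgroup (UG n σ)) = Usub n σ := IsPGroup.toSylow_coe _ _
  obtain ⟨g, hg⟩ := MulAction.exists_smul_eq (UG n σ) Q P
  -- `U ≤ g H g⁻¹`
  have h1 : Usub n σ ≤ H.map (MulAut.conj g).toMonoidHom := by
    rw [← hPU, ← hg]
    exact Cfsg.Agent.Helper72.AltPro.smul_sylow_le_map Q g H hQ
  have h2 := isPronormal_of_Usub_le hn hσ c hc0 hc 2 _ h1
  have h3 := isPronormal_map (MulAut.conj g⁻¹).toMonoidHom (MulAut.conj g⁻¹).surjective h2
  have h4 : (H.map (MulAut.conj g).toMonoidHom).map (MulAut.conj g⁻¹).toMonoidHom = H := by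
    rw [Subgroup.map_map]
    have : (MulAut.conj g⁻¹).toMonoidHom.comp (MulAut.conj g).toMonoidHom = MonoidHom.id _ := by
      apply MonoidHom.ext
      intro x
      show g⁻¹ * (g * x * g⁻¹) * g⁻¹⁻¹ = x
      group
    rw [this, Subgroup.map_id]
  rwa [h4] at h3

end pronormal

/-! ## transport to `PSU_n(q)` -/

open Cfsg.Agent.Helper71 in
/-- **BLOCK AU**: every subgroup of odd index of `PSU_n(q)`, `q` even, `n` even, is pronormal -/
theorem su_char2_pronormal {F : Type*} [Field F] [Fintype F] [CharP F 2] (q : ℕ)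
    (hF : Fintype.card F = q ^ 2) (n : ℕ) (hn : Even n) (hn4 : 4 ≤ n) (H : Subgroup (Cfsg.PSU n F q))
    (hH : Odd H.index) : Cfsg.IsPronormal H := by
  obtain ⟨σ, hσq, hσ, c, hc0, hc⟩ := exists_sigma (F := F) q hF
  obtain ⟨ζ, hζ⟩ := exists_zeta (F := F) q hF
  obtain ⟨l, hl⟩ := exists_lambda (F := F) q hF
  obtain ⟨C, hCJ⟩ := exists_basis_change (σ := σ) ζ l (by rw [hσq]; exact hζ) (by rw [hσq]; exact hl) n
  obtain ⟨e⟩ := nonempty_mulEquiv_SU (σ := σ) q hσq C hCJ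
  set f : UG n σ →* Cfsg.PSU n F q :=
    (QuotientGroup.mk' (Subgroup.center ↥(Cfsg.SU n F q))).comp e.toMonoidHom with hf
  have hfs : Function.Surjective f := (QuotientGroup.mk'_surjective _).comp e.surjective
  have h1 : Odd (H.comap f).index := by
    rw [Subgroup.index_comap_of_surjective H hfs]
    exact hH
  have h2 := isPronormal_of_odd_index_UG hn hσ c hc0 hc (H.comap f) h1
  have h3 := isPronormal_map f hfs h2
  rwa [Subgroup.map_comap_eq_self_of_surjective hfs] at h3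

end Cfsg.Agent.Helper9.PronAU
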